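import Groth.Agent.L06.NormalUnion
import Groth.Agent.L19.SmoothNormal
import Groth.Agent.L20.GenSmooth.Ring
import Mathlib.RingTheory.Smooth.Locus
import Mathlib.FieldTheory.PurelyInseparable.PerfectClosure
import Mathlib.FieldTheory.IsAlgClosed.AlgebraicClosure
import Mathlib.RingTheory.Flat.FaithfullyFlat.Basic

/-!
# Geometric normality is tested on finite purely inseparable extensions
-/

set_option autoImplicit false
universe u

open TensorProduct Polynomial

namespace Groth.L15.GeomNormal

/-- a directed union of normal rings is normal -/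
theorem normal_union {N : Type u} [CommRing N]
    (h : ∀ s : Finset N, ∃ (T : Type u) (_ : CommRing T) (φ : T →+* N),
      Function.Injective φ ∧ (↑s ⊆ Set.range φ) ∧ EGA4.IsNormalRing T) :
    EGA4.IsNormalRing N := by
  classical
  intro Q _
  haveI hd : IsDomain (Localization.AtPrime Q) := by
    haveI : NoZeroDivisors (Localization.AtPrime Q) := ⟨fun {x y} hxy => by
      obtain ⟨a, s, rfl⟩ := IsLocalization.exists_mk'_eq Q.primeCompl x
      obtain ⟨b, t, rfl⟩ := IsLocalization.exists_mk'_eq Q.primeCompl y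
      rw [← IsLocalization.mk'_mul, IsLocalization.mk'_eq_zero_iff] at hxy
      obtain ⟨⟨u, hu⟩, hab⟩ := hxy
      obtain ⟨T, _, φ, hφ, hs, hn⟩ := h {u, a, b}
      obtain ⟨u', rfl⟩ := hs (show u ∈ (↑({u, a, b} : Finset N) : Set N) by simp)
      obtain ⟨a', rfl⟩ := hs (show a ∈ (↑({φ u', a, b} : Finset N) : Set N) by simp)
      obtain ⟨b', rfl⟩ := hs (show b ∈ (↑({φ u', φ a', b} : Finset N) : Set N) by simp)
      haveI : (Q.comap φ).IsPrime := Ideal.IsPrime.comap _
      haveI := (hn (Q.comap φ)).1
      have h0 : algebraMap T (Localization.AtPrime (Q.comap φ)) (u' * (a' * b')) = 0 := by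
        rw [show u' * (a' * b') = 0 from hφ (by rw [map_zero, map_mul, map_mul]; exact hab), map_zero]
      have key : ∀ z : T, algebraMap T (Localization.AtPrime (Q.comap φ)) z = 0 →
          ∃ v ∉ Q, v * φ z = 0 := fun z hz => by
        obtain ⟨⟨v, hv⟩, hvz⟩ := (IsLocalization.map_eq_zero_iff (Q.comap φ).primeCompl _ z).mp hz
        exact ⟨φ v, hv, by rw [← map_mul, show v * z = 0 from hvz, map_zero]⟩
      rw [map_mul, map_mul] at h0
      rcases mul_eq_zero.mp h0 with h1 | h1
      · obtain ⟨v, hv, hvu⟩ := key _ h1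
        exact absurd (((inferInstance : Q.IsPrime).mem_or_mem (hvu.symm ▸ Q.zero_mem)).resolve_left hv) hu
      rcases mul_eq_zero.mp h1 with h2 | h2
      · obtain ⟨v, hv, hva⟩ := key _ h2
        exact Or.inl ((IsLocalization.mk'_eq_zero_iff _ _).mpr ⟨⟨v, hv⟩, hva⟩)
      · obtain ⟨v, hv, hvb⟩ := key _ h2
        exact Or.inr ((IsLocalization.mk'_eq_zero_iff _ _).mpr ⟨⟨v, hv⟩, hvb⟩)⟩
    exact NoZeroDivisors.to_isDomain _
  refine ⟨hd, Groth.L06.NormalTensor.isIntegrallyClosed_of_locCond Q ?_⟩
  intro a b p hp hab hb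
  obtain ⟨T, _, φ, hφ, hs, hn⟩ := h ({a, b} ∪ p.support.image p.coeff)
  have hsub : ∀ x ∈ ({a, b} ∪ p.support.image p.coeff : Finset N), ∃ y, φ y = x := fun x hx => hs hx
  obtain ⟨a', rfl⟩ := hsub a (by simp)
  obtain ⟨b', rfl⟩ := hsub b (by simp)
  have hlift : p ∈ Polynomial.lifts φ := (lifts_iff_coeff_lifts p).mpr fun i => by
    by_cases hi : i ∈ p.support
    · exact hsub _ (Finset.mem_union_right _ (Finset.mem_image_of_mem _ hi))
    · exact ⟨0, by rw [map_zero, notMem_support_iff.mp hi]⟩
  obtain ⟨p', hp', -, hp'm⟩ := lifts_and_natDegree_eq_and_monic hlift hp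
  haveI : (Q.comap φ).IsPrime := Ideal.IsPrime.comap _
  haveI := (hn (Q.comap φ)).1
  haveI := (hn (Q.comap φ)).2
  haveI : Nontrivial N := ⟨1, 0, fun h0 => hb 1 ((Ideal.ne_top_iff_one _).mp (inferInstance : Q.IsPrime).ne_top) (by rw [h0, zero_mul])⟩
  have hroot : (p'.scaleRoots b').eval a' = 0 := hφ (by
    rw [map_zero, ← hab, ← hp', ← eval₂_at_apply, ← eval_map, map_scaleRoots _ _ _ (by rw [hp'm, map_one]; exact one_ne_zero)])
  obtain ⟨v, hv, z, hvz⟩ := Groth.L06.NormalTensor.locCond_of_normal (Q.comap φ) a' b' p' hp'm hroot fun v hv h0 =>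
    hb (φ v) hv (by rw [← map_mul, h0, map_zero])
  exact ⟨φ v, hv, φ z, by rw [← map_mul, hvz, map_mul]⟩

/-- a finitely generated domain over a perfect field is smooth somewhere -/
theorem exists_smooth_away (P : Type u) [Field P] [PerfectField P] (C : Type u) [CommRing C] [IsDomain C]
    [Algebra P C] [Algebra.FiniteType P C] :
    ∃ f : C, f ≠ 0 ∧ Algebra.Smooth P (Localization.Away f) := by
  haveI : Algebra.IsGeometricallyReduced P C := by
    haveI : IsReduced (P ⊗[P] C) := isReduced_of_injective (Algebra.TensorProduct.lid P C).toAlgHom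
      (Algebra.TensorProduct.lid P C).injective
    exact Groth.L20.GenSmooth.isGeometricallyReduced_of_perfect (L := P) (P := P) (Ω := AlgebraicClosure P)
  haveI : Algebra.FinitePresentation P C := (Algebra.FinitePresentation.of_finiteType).1 inferInstance
  haveI : (⊥ : Ideal C).IsPrime := Ideal.isPrime_bot
  haveI := Groth.L20.GenSmooth.isSmoothAt_of_mem_minimalPrimes (k := P) (⟨⊥, inferInstance⟩ : PrimeSpectrum C)
    (show (⊥ : Ideal C) ∈ minimalPrimes C from ⟨⟨inferInstance, le_refl _⟩, fun q _ _ => bot_le⟩)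
  obtain ⟨f, hf, hsm⟩ := Algebra.IsSmoothAt.exists_notMem_smooth P (⊥ : Ideal C)
  exact ⟨f, fun h0 => hf (Ideal.mem_bot.mpr h0), hsm⟩

/-- over a perfect field, normality is stable under every field extension -/
theorem normal_tensor_of_perfect (P : Type u) [Field P] [PerfectField P] (B : Type u) [CommRing B] [Algebra P B]
    (hB : EGA4.IsNormalRing B) (Ω : Type u) [Field Ω] [Algebra P Ω] : EGA4.IsNormalRing (Ω ⊗[P] B) := by
  classical
  refine normal_union fun s => ?_
  obtain ⟨N, hN, hs⟩ := TensorProduct.exists_finite_submodule_left_of_setFinite (s : Set (Ω ⊗[P] B)) s.finite_toSet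
  obtain ⟨t, ht⟩ := Module.Finite.iff_fg.mp hN
  let C := Algebra.adjoin P (t : Set Ω)
  haveI : Algebra.FiniteType P C := (Subalgebra.fg_iff_finiteType C).1 ⟨t, rfl⟩
  obtain ⟨f, hf, hsm⟩ := exists_smooth_away P C
  have hfu : IsUnit (C.val.toRingHom f) := isUnit_iff_ne_zero.mpr fun h0 => hf (Subtype.ext h0)
  let g : Localization.Away f →+* Ω := IsLocalization.Away.lift f hfu
  have hg : ∀ c : C, g (algebraMap C (Localization.Away f) c) = (c : Ω) := fun c => IsLocalization.Away.lift_eq f hfu c
  let ψ : Localization.Away f →ₐ[P] Ω := AlgHom.mk g fun r => by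
    rw [IsScalarTower.algebraMap_apply P C (Localization.Away f)]
    exact hg _
  have hψ : Function.Injective ψ := by
    refine (injective_iff_map_eq_zero g).mpr fun z hz => ?_
    obtain ⟨c, w, rfl⟩ := IsLocalization.exists_mk'_eq (Submonoid.powers f) z
    have h1 : g (algebraMap C (Localization.Away f) c) = 0 := by
      rw [← IsLocalization.mk'_spec (Localization.Away f) c w, map_mul]
      exact mul_eq_zero_of_left hz _
    rw [hg] at h1
    rw [show c = 0 from Subtype.ext h1, IsLocalization.mk'_zero]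
  refine ⟨Localization.Away f ⊗[P] B, inferInstance, (Algebra.TensorProduct.map ψ (AlgHom.id P B)).toRingHom,
    ?_, ?_, ?_⟩
  · exact Module.Flat.rTensor_preserves_injective_linearMap (M := B) ψ.toLinearMap hψ
  · intro x hx
    obtain ⟨w, rfl⟩ := hs hx
    have hNC : N ≤ Subalgebra.toSubmodule C := ht ▸ Submodule.span_le.mpr Algebra.subset_adjoin
    let j : N →ₗ[P] Localization.Away f :=
      (IsScalarTower.toAlgHom P C (Localization.Away f)).toLinearMap ∘ₗ (Submodule.inclusion hNC)
    have hj : ψ.toLinearMap ∘ₗ j = N.subtype := LinearMap.ext fun n => hg _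
    refine ⟨j.rTensor B w, ?_⟩
    show ψ.toLinearMap.rTensor B (j.rTensor B w) = _
    rw [← LinearMap.comp_apply, ← LinearMap.rTensor_comp, hj]
  · exact Groth.L06.NormalAscent.isNormalRing_of_ringEquiv
      (Algebra.TensorProduct.comm P B (Localization.Away f)).toRingEquiv
      (Groth.L19.SmoothNormal.isNormalRing_of_smooth B (B ⊗[P] Localization.Away f) hB)

/-- normality after every finite purely inseparable extension gives normality over a purely inseparable extension -/
theorem normal_tensor_of_purelyInseparable (k A : Type u) [Field k] [CommRing A] [Algebra k A]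
    (H : ∀ (k' : Type u) [Field k'] [Algebra k k'], Module.Finite k k' → IsPurelyInseparable k k' →
      EGA4.IsNormalRing (k' ⊗[k] A))
    (P : Type u) [Field P] [Algebra k P] [IsPurelyInseparable k P] : EGA4.IsNormalRing (P ⊗[k] A) := by
  classical
  refine normal_union fun s => ?_
  obtain ⟨N, hN, hs⟩ := TensorProduct.exists_finite_submodule_left_of_setFinite (s : Set (P ⊗[k] A)) s.finite_toSet
  obtain ⟨t, ht⟩ := Module.Finite.iff_fg.mp hN
  let L : IntermediateField k P := IntermediateField.adjoin k (t : Set P)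
  haveI : Finite (t : Set P) := t.finite_toSet
  haveI : FiniteDimensional k L :=
    IntermediateField.finiteDimensional_adjoin fun x _ => (IsPurelyInseparable.isIntegral' k x)
  haveI : IsPurelyInseparable k L := IsPurelyInseparable.tower_bot k L P
  refine ⟨L ⊗[k] A, inferInstance, (Algebra.TensorProduct.map L.val (AlgHom.id k A)).toRingHom, ?_, ?_,
    H L inferInstance inferInstance⟩
  · exact Module.Flat.rTensor_preserves_injective_linearMap (M := A) L.val.toLinearMap Subtype.val_injective
  · intro x hx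
    obtain ⟨w, rfl⟩ := hs hx
    have hNL : N ≤ Subalgebra.toSubmodule L.toSubalgebra :=
      ht ▸ Submodule.span_le.mpr (IntermediateField.subset_adjoin k (t : Set P))
    refine ⟨(Submodule.inclusion hNL).rTensor A w, ?_⟩
    show L.val.toLinearMap.rTensor A ((Submodule.inclusion hNL).rTensor A w) = _
    rw [← LinearMap.comp_apply, ← LinearMap.rTensor_comp]
    rfl

theorem normal_algClosed (k A P Ω : Type u) [Field k] [CommRing A] [Algebra k A] [Field P] [Algebra k P]
    [PerfectField P] [IsPurelyInseparable k P] [Field Ω] [Algebra k Ω] [Algebra P Ω] [IsScalarTower k P Ω]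
    (H : ∀ (k' : Type u) [Field k'] [Algebra k k'], Module.Finite k k' → IsPurelyInseparable k k' →
      EGA4.IsNormalRing (k' ⊗[k] A)) : EGA4.IsNormalRing (Ω ⊗[k] A) :=
  Groth.L06.NormalAscent.isNormalRing_of_ringEquiv (Algebra.TensorProduct.cancelBaseChange k P P Ω A).toRingEquiv
    (normal_tensor_of_perfect P (P ⊗[k] A) (normal_tensor_of_purelyInseparable k A H P) Ω)

theorem normal_baseChange (k A : Type u) [Field k] [CommRing A] [Algebra k A]
    (H : ∀ (k' : Type u) [Field k'] [Algebra k k'], Module.Finite k k' → IsPurelyInseparable k k' →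
      EGA4.IsNormalRing (k' ⊗[k] A))
    (k' : Type u) [Field k'] [Algebra k k'] : EGA4.IsNormalRing (k' ⊗[k] A) := by
  let Ω := AlgebraicClosure k'
  have h3 : EGA4.IsNormalRing (Ω ⊗[k] A) := normal_algClosed k A (perfectClosure k Ω) Ω H
  have h4 : EGA4.IsNormalRing ((k' ⊗[k] A) ⊗[k'] Ω) := Groth.L06.NormalAscent.isNormalRing_of_ringEquiv
    ((Algebra.TensorProduct.comm k' (k' ⊗[k] A) Ω).toRingEquiv.trans
      (Algebra.TensorProduct.cancelBaseChange k k' k' Ω A).toRingEquiv).symm h3
  exact Groth.L06.NormalAscent.isNormalRing_of_faithfullyFlat h4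

end Groth.L15.GeomNormal
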